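import Cfsg.Agent.H610.EB.Red
import Cfsg.Agent.H610.Main4516
import Cfsg.Agent.CharactersDeep.CliffordSum
import Cfsg.Agent.S4518
import Cfsg.Agent.S4519
import Cfsg.Agent.S4520

/-!
# Fixed characters and normal subgroups of odd index

The versions of the reduction lemmas of `H610/EB/Red` where `N ≤ J ≤ G`, `J / N` has odd order and
`G / J` is a `2`-group.
-/

set_option autoImplicit false
set_option linter.unusedSectionVars false
set_option linter.style.haveILetI false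

namespace Cfsg.Agent.H611.EB

open Cfsg Cfsg.Agent.Characters Cfsg.Agent.H694
open scoped ComplexConjugate
open Cfsg.Agent.Characters.Core
open Cfsg.Agent.OddOrderCharacters.NormalInduced (conjFn)
open Cfsg.Agent.Blocks.Local Cfsg.Agent.Blocks.Basic
open Cfsg.Agent.H610.EB
open Cfsg.Agent.H610

universe u v

section odd

variable {G : Type u} [Group G] [Fintype G] {M : Ideal AlgInt} {k : ℕ}

theorem exists_tw' (hk : IsK G k) : ∃ k' : ℕ, (∀ g : G, g ^ k' = g ^ k) ∧ OddIndex.Tw G k' 1 :=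
  Main4516.exists_tw hk.two hk.odd

theorem pow_sub {k k' : ℕ} (h : ∀ g : G, g ^ k' = g ^ k) (N : Subgroup G) (n : N) : n ^ k' = n ^ k := by
  apply Subtype.ext
  rw [Subgroup.coe_pow, Subgroup.coe_pow, h]

/-- Constituents of the restriction of a fixed character to a normal subgroup of odd index are
fixed. -/
theorem fixed_of_over (hk : IsK G k) (N : Subgroup G) [N.Normal] [Fintype N] (hidx : Odd N.index)
    (χ : IrrCharacter G) (hχ : ∀ g : G, (χ : G → ℂ) (g ^ k) = (χ : G → ℂ) g) (θ : IrrCharacter N)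
    (hover : classInner (fun n : N => (χ : G → ℂ) n) (θ : N → ℂ) ≠ 0) :
    ∀ n : N, (θ : N → ℂ) (n ^ k) = (θ : N → ℂ) n := by
  haveI : Fact (Nat.Prime 2) := ⟨Nat.prime_two⟩
  obtain ⟨k', h1, h2⟩ := exists_tw' hk
  intro n
  rw [← pow_sub h1 N]
  refine Cfsg.Agent.S4518.result 2 N ?_ k' 1 h2.cop h2.ord χ (fun g => by rw [h1, hχ]) θ hover n
  intro h3
  exact (Nat.not_even_iff_odd.2 hidx) (even_iff_two_dvd.2 h3)

/-- The fixed character over a fixed character. -/
theorem exists_over (hk : IsK G k) (N : Subgroup G) [N.Normal] [Fintype N] (hidx : Odd N.index)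
    (θ : IrrCharacter N) (hθ : ∀ n : N, (θ : N → ℂ) (n ^ k) = (θ : N → ℂ) n) :
    ∃ χ : IrrCharacter G, classInner (fun n : N => (χ : G → ℂ) n) (θ : N → ℂ) ≠ 0 ∧
      ∀ g : G, (χ : G → ℂ) (g ^ k) = (χ : G → ℂ) g := by
  obtain ⟨k', h1, h2⟩ := exists_tw' hk
  obtain ⟨χ, h3, h4⟩ := OddIndex.exists_over h2 N hidx θ (fun n => by rw [pow_sub h1 N, hθ])
  exact ⟨χ, h3, fun g => by rw [← h1, h4]⟩

theorem unique_over (hk : IsK G k) (N : Subgroup G) [N.Normal] [Fintype N] (hidx : Odd N.index)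
    (θ : IrrCharacter N) (χ₁ χ₂ : IrrCharacter G)
    (h₁ : ∀ g : G, (χ₁ : G → ℂ) (g ^ k) = (χ₁ : G → ℂ) g)
    (h₂ : ∀ g : G, (χ₂ : G → ℂ) (g ^ k) = (χ₂ : G → ℂ) g)
    (o₁ : classInner (fun n : N => (χ₁ : G → ℂ) n) (θ : N → ℂ) ≠ 0)
    (o₂ : classInner (fun n : N => (χ₂ : G → ℂ) n) (θ : N → ℂ) ≠ 0) : χ₁ = χ₂ := by
  obtain ⟨k', h1, h2⟩ := exists_tw' hk
  exact OddIndex.unique_over h2 N hidx θ χ₁ χ₂ (fun g => by rw [h1, h₁]) (fun g => by rw [h1, h₂])
    o₁ o₂

theorem mem_iff (hM : IsPModular 2 M) (hk : IsK G k) (N : Subgroup G) [N.Normal] [Fintype N]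
    (hidx : Odd N.index) (χ : IrrCharacter G)
    (hχ : ∀ g : G, (χ : G → ℂ) (g ^ k) = (χ : G → ℂ) g) (θ : IrrCharacter N)
    (hover : classInner (fun n : N => (χ : G → ℂ) n) (θ : N → ℂ) ≠ 0) :
    χ ∈ principalBlock M G ↔ θ ∈ principalBlock M N := by
  obtain ⟨k', h1, h2⟩ := exists_tw' hk
  have h3 := fixed_of_over hk N hidx χ hχ θ hover
  exact Cfsg.Agent.S4520.result M hM N hidx k' 1 h2.cop h2.ord h2.odd θ
    (fun n => by rw [pow_sub h1 N, h3]) χ (fun g => by rw [h1, hχ]) hover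

/-- The parity of the norm. -/
theorem norm_odd (hk : IsK G k) (N : Subgroup G) [N.Normal] [Fintype N] (hidx : Odd N.index)
    (χ : IrrCharacter G) (hχ : ∀ g : G, (χ : G → ℂ) (g ^ k) = (χ : G → ℂ) g) :
    ∃ c : ℕ, classInner (fun n : N => (χ : G → ℂ) n) (fun n : N => (χ : G → ℂ) n) = c ∧ Odd c := by
  obtain ⟨k', h1, h2⟩ := exists_tw' hk
  have hc : IsCharacter N (fun n : N => (χ : G → ℂ) n) :=
    Clifford.isCharacter_restrict N (Core.isIrr_isCharacter χ.2)
  obtain ⟨c, hc'⟩ := Core.classInner_isNat hc hc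
  refine ⟨c, hc', ?_⟩
  have h3 := OddIndex.parity_inner h2 N hidx χ χ (fun g => by rw [h1, hχ])
    (fun g => by rw [h1, hχ]) (a := 1) (by rw [Core.classInner_irr_self χ.2, Nat.cast_one]) hc'
  exact Nat.odd_iff.2 h3.symm

/-- The multiplicity is odd and the degrees have the same parity. -/
theorem over_parity (hk : IsK G k) (N : Subgroup G) [N.Normal] [Fintype N] (hidx : Odd N.index)
    (χ : IrrCharacter G) (hχ : ∀ g : G, (χ : G → ℂ) (g ^ k) = (χ : G → ℂ) g) (φ : IrrCharacter N)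
    (hover : classInner (fun n : N => (χ : G → ℂ) n) (φ : N → ℂ) ≠ 0) :
    Odd (mu (fun n : N => (χ : G → ℂ) n) (φ : N → ℂ)) ∧
      (Even (charDegree (χ : G → ℂ)) ↔ Even (charDegree (φ : N → ℂ))) := by
  classical
  have hc : IsCharacter N (fun n : N => (χ : G → ℂ) n) :=
    Clifford.isCharacter_restrict N (Core.isIrr_isCharacter χ.2)
  obtain ⟨e, he⟩ := Core.classInner_isNat hc (Core.isIrr_isCharacter φ.2)
  have he0 : e ≠ 0 := by
    rintro rfl
    exact hover (by rw [he, Nat.cast_zero])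
  obtain ⟨c, hc1, hc2⟩ := norm_odd hk N hidx χ hχ
  have h1 := Cfsg.Agent.CharactersDeep.CliffordSum.classInner_restrict_self_eq N χ.2 φ.2 he he0
  have h2 := Cfsg.Agent.CharactersDeep.CliffordSum.restrict_eq_smul_sum N χ.2 φ.2 hover
  set t := (Finset.univ.image (fun x : G => (φ : N → ℂ) ∘ (MulAut.conjNormal x : MulAut N))) with ht
  rw [hc1] at h1
  have h5 : c = e ^ 2 * t.card := by exact_mod_cast h1
  rw [h5] at hc2
  have h6 := Nat.odd_mul.1 hc2
  have he_odd : Odd e := by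
    have := h6.1
    rw [sq] at this
    exact (Nat.odd_mul.1 this).1
  have h3 : (charDegree (χ : G → ℂ) : ℂ) = e * (t.card * charDegree (φ : N → ℂ)) := by
    have h4 := congrFun h2 1
    simp only [Pi.smul_apply, smul_eq_mul, Finset.sum_apply] at h4
    rw [he] at h4
    rw [← irr_one_eq_charDegree χ.2]
    have h5 : ∀ ψ ∈ t, ψ 1 = charDegree (φ : N → ℂ) := by
      intro ψ hψ
      obtain ⟨x, -, rfl⟩ := Finset.mem_image.1 hψ
      rw [← irr_one_eq_charDegree φ.2, Function.comp_apply, map_one]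
    rw [Finset.sum_congr rfl h5, Finset.sum_const, nsmul_eq_mul] at h4
    exact h4
  have h4 : charDegree (χ : G → ℂ) = e * (t.card * charDegree (φ : N → ℂ)) := by exact_mod_cast h3
  refine ⟨?_, ?_⟩
  · have h7 : mu (fun n : N => (χ : G → ℂ) n) (φ : N → ℂ) = (e : ℤ) :=
      mu_eq (by rw [he]; push_cast; rfl)
    rw [h7]
    exact_mod_cast he_odd
  · rw [h4, ← Nat.not_odd_iff_even, ← Nat.not_odd_iff_even, Nat.odd_mul, Nat.odd_mul]
    tauto

/-- The number of constituents is odd. -/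
theorem odd_card_constituents (hk : IsK G k) (N : Subgroup G) [N.Normal] [Fintype N]
    (hidx : Odd N.index) (χ : IrrCharacter G)
    (hχ : ∀ g : G, (χ : G → ℂ) (g ^ k) = (χ : G → ℂ) g) :
    Odd (Nat.card {φ : IrrCharacter N //
      classInner (fun n : N => (χ : G → ℂ) n) (φ : N → ℂ) ≠ 0}) := by
  classical
  haveI := @Fintype.ofFinite (IrrCharacter N) finite_irr
  have hc : IsCharacter N (fun n : N => (χ : G → ℂ) n) :=
    Clifford.isCharacter_restrict N (Core.isIrr_isCharacter χ.2)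
  obtain ⟨c, hc1, hc2⟩ := norm_odd hk N hidx χ hχ
  have h1 := classInner_eq_sum (isCharacter_isClassFunction hc) (isCharacter_isClassFunction hc)
  rw [hc1] at h1
  have h2 : (c : ℤ) = ∑ φ : IrrCharacter N, mu (fun n : N => (χ : G → ℂ) n) (φ : N → ℂ) *
      mu (fun n : N => (χ : G → ℂ) n) (φ : N → ℂ) := by
    have h3 : ∀ φ : IrrCharacter N, classInner (fun n : N => (χ : G → ℂ) n) (φ : N → ℂ) *
        conj (classInner (fun n : N => (χ : G → ℂ) n) (φ : N → ℂ)) =
        ((mu (fun n : N => (χ : G → ℂ) n) (φ : N → ℂ) *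
          mu (fun n : N => (χ : G → ℂ) n) (φ : N → ℂ) : ℤ) : ℂ) := by
      intro φ
      rw [irr_mu_spec hc φ.2, map_intCast]
      push_cast
      rfl
    rw [Finset.sum_congr rfl fun φ _ => h3 φ] at h1
    exact_mod_cast h1
  have h4 : ((c : ℕ) : ZMod 2) = ((Nat.card {φ : IrrCharacter N //
      classInner (fun n : N => (χ : G → ℂ) n) (φ : N → ℂ) ≠ 0} : ℕ) : ZMod 2) := by
    rw [Nat.card_eq_fintype_card, Fintype.card_subtype, Finset.card_filter]
    have h5 := congrArg (Int.cast : ℤ → ZMod 2) h2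
    push_cast at h5 ⊢
    rw [h5]
    refine Finset.sum_congr rfl fun φ _ => ?_
    split_ifs with h
    · obtain ⟨m, hm⟩ := (over_parity hk N hidx χ hχ φ h).1
      rw [hm]
      push_cast
      have e : ∀ x : ZMod 2, (2 * x + 1) * (2 * x + 1) = 1 := by decide
      exact e _
    · rw [not_not] at h
      have h6 : mu (fun n : N => (χ : G → ℂ) n) (φ : N → ℂ) = 0 := mu_eq (by rw [h]; simp)
      rw [h6]
      simp
  rw [← Nat.not_even_iff_odd, even_iff_two_dvd, ← ZMod.natCast_eq_zero_iff, ← h4,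
    ZMod.natCast_eq_zero_iff, ← even_iff_two_dvd, Nat.not_even_iff_odd]
  exact hc2

/-- parity of a set with an involution -/
theorem odd_card_iff_fixed {X : Type*} [Finite X] (s : X → X) (hs : ∀ x, s (s x) = x)
    (f : X → Prop) (hf : ∀ x, f x → f (s x)) :
    ((Nat.card {x // f x} : ℕ) : ZMod 2) = ((Nat.card {x // f x ∧ s x = x} : ℕ) : ZMod 2) := by
  classical
  haveI := Fintype.ofFinite X
  rw [Nat.card_eq_fintype_card, Fintype.card_subtype, Finset.card_filter, Nat.card_eq_fintype_card,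
    Fintype.card_subtype, Finset.card_filter]
  push_cast
  rw [← sub_eq_zero, ← Finset.sum_sub_distrib]
  refine Finset.sum_involution (fun x _ => s x) ?_ ?_ (fun _ _ => Finset.mem_univ _)
    (fun x _ => hs x)
  · intro x _
    have h1 : f (s x) ↔ f x := ⟨fun h => by rw [← hs x]; exact hf _ h, hf x⟩
    have h2 : (f (s x) ∧ s (s x) = s x) ↔ (f x ∧ s x = x) := by
      rw [h1, hs]
      exact ⟨fun h => ⟨h.1, h.2.symm⟩, fun h => ⟨h.1, h.2.symm⟩⟩
    by_cases ha : f x
    · by_cases hb : s x = x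
      · rw [if_pos (h1.2 ha), if_pos (h2.2 ⟨ha, hb⟩), if_pos ha, if_pos ⟨ha, hb⟩]
        ring
      · rw [if_pos (h1.2 ha), if_neg (fun h => hb (h2.1 h).2), if_pos ha, if_neg (fun h => hb h.2)]
        have e : (1 - 0 + (1 - 0) : ZMod 2) = 0 := by decide
        exact e
    · rw [if_neg (fun h => ha (h1.1 h)), if_neg (fun h => ha (h2.1 h).1), if_neg ha,
        if_neg (fun h => ha h.1)]
      ring
  · intro x _ hx hsx
    apply hx
    by_cases h : f x
    · rw [if_pos h, if_pos ⟨h, hsx⟩, sub_self]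
    · rw [if_neg h, if_neg (fun h' => h h'.1), sub_self]

/-- **The count**: corresponding families of fixed characters of `N` and `G` have cardinalities of
the same parity. -/
theorem card_up (hk : IsK G k) (N : Subgroup G) [N.Normal] [Fintype N] (hidx : Odd N.index)
    (f : IrrCharacter N → Prop) (F : IrrCharacter G → Prop)
    (hf : ∀ φ, f φ → f (Twist.pw (hk.sub N).coprime φ))
    (hF : ∀ χ, F χ → F (Twist.pw hk.coprime χ))
    (hfF : ∀ (χ : IrrCharacter G) (φ : IrrCharacter N),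
      (∀ g : G, (χ : G → ℂ) (g ^ k) = (χ : G → ℂ) g) →
      (∀ n : N, (φ : N → ℂ) (n ^ k) = (φ : N → ℂ) n) →
      classInner (fun n : N => (χ : G → ℂ) n) (φ : N → ℂ) ≠ 0 → (F χ ↔ f φ)) :
    ((Nat.card {φ // f φ} : ℕ) : ZMod 2) = ((Nat.card {χ // F χ} : ℕ) : ZMod 2) := by
  classical
  haveI := @Fintype.ofFinite (IrrCharacter N) finite_irr
  haveI := @Fintype.ofFinite (IrrCharacter G) finite_irr
  rw [odd_card_iff_fixed (Twist.pw (hk.sub N).coprime) (pw_pw (hk.sub N)) f hf,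
    odd_card_iff_fixed (Twist.pw hk.coprime) (pw_pw hk) F hF]
  have hfix1 : ∀ φ : IrrCharacter N, Twist.pw (hk.sub N).coprime φ = φ ↔
      ∀ n : N, (φ : N → ℂ) (n ^ k) = (φ : N → ℂ) n := Twist.fixed_iff (hk.sub N).coprime
  have hfix2 : ∀ χ : IrrCharacter G, Twist.pw hk.coprime χ = χ ↔
      ∀ g : G, (χ : G → ℂ) (g ^ k) = (χ : G → ℂ) g := Twist.fixed_iff hk.coprime
  simp only [hfix1, hfix2]
  -- the map
  have hex : ∀ φ : {φ : IrrCharacter N // f φ ∧ ∀ n : N, (φ : N → ℂ) (n ^ k) = (φ : N → ℂ) n},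
      ∃ χ : {χ : IrrCharacter G // F χ ∧ ∀ g : G, (χ : G → ℂ) (g ^ k) = (χ : G → ℂ) g},
        classInner (fun n : N => ((χ : IrrCharacter G) : G → ℂ) n) ((φ : IrrCharacter N) : N → ℂ) ≠ 0 := by
    rintro ⟨φ, hφ1, hφ2⟩
    obtain ⟨χ, h1, h2⟩ := exists_over hk N hidx φ hφ2
    exact ⟨⟨χ, (hfF χ φ h2 hφ2 h1).2 hφ1, h2⟩, h1⟩
  choose up hup using hex
  have hcard : ∀ χ : {χ : IrrCharacter G // F χ ∧ ∀ g : G, (χ : G → ℂ) (g ^ k) = (χ : G → ℂ) g},
      (((Finset.univ.filter fun φ => up φ = χ).card : ℕ) : ZMod 2) = 1 := by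
    rintro ⟨χ, hχ1, hχ2⟩
    have h1 := odd_card_constituents hk N hidx χ hχ2
    have h2 : (Finset.univ.filter fun φ => up φ = ⟨χ, hχ1, hχ2⟩).card =
        Nat.card {φ : IrrCharacter N //
          classInner (fun n : N => (χ : G → ℂ) n) (φ : N → ℂ) ≠ 0} := by
      rw [← Fintype.card_subtype, ← Nat.card_eq_fintype_card]
      refine Nat.card_congr
        { toFun := fun φ => ⟨φ.1.1, by
            have h3 := hup φ.1
            rw [φ.2] at h3
            exact h3⟩
          invFun := fun φ => ⟨⟨φ.1, (hfF χ φ.1 hχ2 (fixed_of_over hk N hidx χ hχ2 φ.1 φ.2) φ.2).1 hχ1,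
            fixed_of_over hk N hidx χ hχ2 φ.1 φ.2⟩, by
              apply Subtype.ext
              exact unique_over hk N hidx φ.1 _ _ (up _).2.2 hχ2 (hup _) φ.2⟩
          left_inv := fun φ => by
            apply Subtype.ext
            apply Subtype.ext
            rfl
          right_inv := fun φ => by
            apply Subtype.ext
            rfl }
    rw [h2]
    obtain ⟨m, hm⟩ := h1
    rw [hm]
    push_cast
    have e : ∀ x : ZMod 2, 2 * x + 1 = 1 := by decide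
    exact e _
  rw [Nat.card_eq_fintype_card, Nat.card_eq_fintype_card, ← Finset.card_univ,
    Finset.card_eq_sum_card_fiberwise (f := up) (t := Finset.univ) (fun _ _ => Finset.mem_univ _)]
  push_cast
  rw [Finset.sum_congr rfl fun χ _ => hcard χ, Finset.sum_const, Finset.card_univ, nsmul_eq_mul,
    mul_one]

/-- Multiplicities of fixed characters in a fixed generalized character. -/
theorem mu_parity (hk : IsK G k) (N : Subgroup G) [N.Normal] [Fintype N] (hidx : Odd N.index)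
    {π : G → ℂ} (hπ : GC π) (hπk : ∀ g, π (g ^ k) = π g) (χ : IrrCharacter G)
    (hχ : ∀ g : G, (χ : G → ℂ) (g ^ k) = (χ : G → ℂ) g) (φ : IrrCharacter N)
    (hover : classInner (fun n : N => (χ : G → ℂ) n) (φ : N → ℂ) ≠ 0) :
    Odd (mu π (χ : G → ℂ)) ↔ Odd (mu (fun n : N => π n) (φ : N → ℂ)) := by
  classical
  haveI := @Fintype.ofFinite (IrrCharacter G) finite_irr
  have hφ := fixed_of_over hk N hidx χ hχ φ hover
  have h1 := hπ.classInner_comp N.subtype φ.2
  have h2 : mu (fun n : N => π n) (φ : N → ℂ) =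
      ∑ ψ : IrrCharacter G, mu π (ψ : G → ℂ) *
        mu (fun x : N => (ψ : G → ℂ) (N.subtype x)) (φ : N → ℂ) := mu_eq h1
  set F : IrrCharacter G → ℤ := fun ψ => mu π (ψ : G → ℂ) *
        mu (fun x : N => (ψ : G → ℂ) (N.subtype x)) (φ : N → ℂ) with hF
  have hinv : ∀ ψ : IrrCharacter G, F (Twist.pw hk.coprime ψ) = F ψ := by
    intro χ
    rw [hF]
    simp only
    rw [mu_pow hk hπk]
    congr 1
    have h3 := Twist.classInner_pow (Twist.coprime_subgroup hk.coprime N)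
      (fun x : N => (χ : G → ℂ) x) (φ : N → ℂ)
    rw [mu, mu]
    congr 2
    have h4 : (fun x : N => (Twist.pw hk.coprime χ : G → ℂ) (N.subtype x)) =
        fun x : N => (fun x : N => (χ : G → ℂ) x) (x ^ k) := by
      funext x
      rw [Twist.pw_apply]
      rfl
    have h5 : (fun g : N => (φ : N → ℂ) (g ^ k)) = (φ : N → ℂ) := funext hφ
    rw [h4]
    rw [h5] at h3
    exact h3
  have h3 : ((∑ ψ ∈ Finset.univ.erase χ, F ψ : ℤ) : ZMod 2) = 0 := by
    rw [Int.cast_sum]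
    refine Finset.sum_involution (fun x _ => Twist.pw hk.coprime x) ?_ ?_ ?_
      (fun x _ => pw_pw hk x)
    · intro x _
      rw [hinv]
      exact zmod_two_add_self _
    · intro x hx hx0 hsx
      have h4 : mu (fun n : N => (x : G → ℂ) n) (φ : N → ℂ) ≠ 0 := by
        intro h4
        apply hx0
        have h5 : F x = mu π (x : G → ℂ) * mu (fun n : N => (x : G → ℂ) n) (φ : N → ℂ) := rfl
        rw [h5, h4, mul_zero, Int.cast_zero]
      have h5 : classInner (fun n : N => (x : G → ℂ) n) (φ : N → ℂ) ≠ 0 := by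
        rw [irr_mu_spec (Clifford.isCharacter_restrict N (Core.isIrr_isCharacter x.2)) φ.2]
        exact_mod_cast h4
      exact (Finset.mem_erase.1 hx).1 (unique_over hk N hidx φ x χ
        ((Twist.fixed_iff hk.coprime x).1 hsx) hχ h5 hover)
    · intro x hx
      refine Finset.mem_erase.2 ⟨fun h4 => (Finset.mem_erase.1 hx).1 ?_, Finset.mem_univ _⟩
      rw [← pw_pw hk x, h4]
      exact (Twist.fixed_iff hk.coprime χ).2 hχ
  rw [← Finset.add_sum_erase _ _ (Finset.mem_univ χ)] at h2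
  have h4 : Odd (mu (fun n : N => (χ : G → ℂ) n) (φ : N → ℂ)) :=
    (over_parity hk N hidx χ hχ φ hover).1
  have h5 : F χ = mu π (χ : G → ℂ) * mu (fun n : N => (χ : G → ℂ) n) (φ : N → ℂ) := rfl
  have h6 : Even (∑ ψ ∈ Finset.univ.erase χ, F ψ) := by
    rw [ZMod.intCast_zmod_eq_zero_iff_dvd] at h3
    exact even_iff_two_dvd.2 (by exact_mod_cast h3)
  have h7 : mu (fun n : N => π n) (φ : N → ℂ) =
      mu π (χ : G → ℂ) * mu (fun n : N => (χ : G → ℂ) n) (φ : N → ℂ) +
        ∑ ψ ∈ Finset.univ.erase χ, F ψ := h2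
  rw [h7, Int.odd_add, Int.odd_mul]
  constructor
  · intro h
    exact ⟨fun _ => h6, fun _ => ⟨h, h4⟩⟩
  · intro h
    exact (h.2 h6).1

end odd

/-! ### The conclusion with a constituent -/

section concl

open Cfsg.Agent.Blocks.Covering (conjIrr conjIrr_conjIrr conjIrr_one conjIrr_apply conjIrr_at_one)
open Cfsg.Agent.OddOrderCharacters.PF9.CliffGen (resTo irr_ind)

variable {G : Type u} [Group G] [Fintype G] {M : Ideal AlgInt} {k : ℕ}

/-- The conclusion of S4522, with the property of a constituent. -/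
def ConclF (M : Ideal AlgInt) (G : Type u) [Group G] (S : Subgroup G) [Fintype S] (k : ℕ)
    (F : IrrCharacter S → Prop) : Prop :=
  ∃ χ ∈ Cfsg.principalBlock M G, Even (Cfsg.charDegree (χ : G → ℂ)) ∧
    (∀ g : G, (χ : G → ℂ) (g ^ k) = (χ : G → ℂ) g) ∧
    ∃ φ : IrrCharacter S, F φ ∧ (∀ s : S, (φ : S → ℂ) (s ^ k) = (φ : S → ℂ) s) ∧
      Cfsg.classInner (fun s : S => (χ : G → ℂ) s) (φ : S → ℂ) ≠ 0

theorem over_trans {G : Type u} [Group G] [Fintype G] (S T : Subgroup G) [Fintype S] [Fintype T]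
    (hST : S ≤ T) {χ : G → ℂ} (hχ : IsCharacter G χ) {ψ : T → ℂ} (hψ : IsIrrCharacter T ψ)
    {φ : S → ℂ} (hφ : IsIrrCharacter S φ) (h1 : classInner (fun t : T => χ t) ψ ≠ 0)
    (h2 : classInner (resTo hST ψ) φ ≠ 0) : classInner (fun s : S => χ s) φ ≠ 0 := by
  have hcI2 : IsCharacter T (fun t : T => χ t) := isCharacter_comp T.subtype hχ
  have h7 := Cfsg.Agent.OddOrderCharacters.Clifford.isCharacter_sub_irr hcI2 hψ h1
  set ρ : T → ℂ := (fun t : T => χ (t : G)) - ψ with hρ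
  have h8 : (fun n : S => χ (n : G)) = resTo hST ρ + resTo hST ψ := by
    funext n
    show _ = ρ _ + ψ _
    rw [hρ]
    show χ (n : G) = χ (n : G) - ψ _ + ψ _
    rw [sub_add_cancel]
  obtain ⟨m, hm⟩ := classInner_isNat
    (Cfsg.Agent.OddOrderCharacters.PF9.CliffGen.isCharacter_resTo hST h7) (isIrr_isCharacter hφ)
  obtain ⟨e, he⟩ := classInner_isNat
    (Cfsg.Agent.OddOrderCharacters.PF9.CliffGen.isCharacter_resTo hST (isIrr_isCharacter hψ))
    (isIrr_isCharacter hφ)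
  rw [he] at h2
  have he0 : e ≠ 0 := by exact_mod_cast h2
  rw [h8, classInner_add_left, hm, he]
  have : (m : ℂ) + (e : ℂ) = ((m + e : ℕ) : ℂ) := by push_cast; ring
  rw [this]
  exact_mod_cast (by omega : m + e ≠ 0)

/-- **The conclusion from the inertia group.** -/
theorem of_inertia' (hM : IsPModular 2 M) (S : Subgroup G) [hS : S.Normal] [Fintype S]
    (hidx : ∃ j : ℕ, S.index = 2 ^ j) (hk : IsK G k) (φ : IrrCharacter S)
    (hφ : φ ∈ principalBlock M S) (hφk : ∀ s : S, (φ : S → ℂ) (s ^ k) = (φ : S → ℂ) s)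
    (I : Subgroup G) [Fintype I]
    (hI : ∀ g, g ∈ I ↔ conjFn S (φ : S → ℂ) g = φ) (hSI : S ≤ I) {π : I → ℂ} (hπ : GC π)
    (hπk : ∀ t : I, π (t ^ k) = π t) (hodd : Odd (mu (resTo hSI π) (φ : S → ℂ)))
    (heven : Even (charDegree (φ : S → ℂ)) ∨ I ≠ ⊤) :
    ∃ χ ∈ Cfsg.principalBlock M G, Even (Cfsg.charDegree (χ : G → ℂ)) ∧
      (∀ g : G, (χ : G → ℂ) (g ^ k) = (χ : G → ℂ) g) ∧
      Cfsg.classInner (fun s : S => (χ : G → ℂ) s) (φ : S → ℂ) ≠ 0 := by
  classical
  haveI : Fact (Nat.Prime 2) := ⟨Nat.prime_two⟩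
  haveI : Fintype (S.subgroupOf I) := Fintype.ofFinite _
  have hkI : IsK I k := hk.sub I
  -- the character of `I`
  obtain ⟨ψ, hψk, hψodd⟩ := exists_odd hkI (S.subgroupOf I) (irr_dn S I hSI φ.2)
    (by
      intro s
      show (φ : S → ℂ) (Subgroup.subgroupOfEquivOfLe hSI (s ^ k)) = (φ : S → ℂ) (Subgroup.subgroupOfEquivOfLe hSI s)
      rw [map_pow, hφk]) hπ hπk (by
      rw [mu_dn S I hSI]
      exact hodd)
  rw [mu_dn S I hSI] at hψodd
  have hmu0 : mu (resTo hSI (ψ : I → ℂ)) (φ : S → ℂ) ≠ 0 := by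
    intro h0
    rw [h0] at hψodd
    exact absurd hψodd (by decide)
  have hcr : IsCharacter S (resTo hSI (ψ : I → ℂ)) :=
    Cfsg.Agent.OddOrderCharacters.PF9.CliffGen.isCharacter_resTo hSI (isIrr_isCharacter ψ.2)
  have hcI : classInner (resTo hSI (ψ : I → ℂ)) (φ : S → ℂ) =
      (mu (resTo hSI (ψ : I → ℂ)) (φ : S → ℂ) : ℂ) := irr_mu_spec hcr φ.2
  have h0 : classInner (resTo hSI (ψ : I → ℂ)) (φ : S → ℂ) ≠ 0 := by
    rw [hcI]
    exact_mod_cast hmu0
  have hirr : IsIrrCharacter G (indFun I (ψ : I → ℂ)) := irr_ind φ.2 hI hSI ψ.2 h0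
  -- the degree
  have hψ1 : (ψ : I → ℂ) 1 = (mu (resTo hSI (ψ : I → ℂ)) (φ : S → ℂ) : ℂ) * (φ : S → ℂ) 1 := by
    have h := apply_one_of_invariant (S.subgroupOf I) (irr_dn S I hSI φ.2)
      (fun g => inv_dn S I hSI (fun g hg => (hI g).1 hg) g) ψ.2 (by
        rw [mu_dn S I hSI]
        exact hmu0)
    rw [mu_dn S I hSI] at h
    rw [h]
    rfl
  obtain ⟨e, he⟩ : ∃ e : ℕ, (e : ℤ) = mu (resTo hSI (ψ : I → ℂ)) (φ : S → ℂ) := by
    obtain ⟨e, he⟩ := classInner_isNat hcr (isIrr_isCharacter φ.2)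
    refine ⟨e, ?_⟩
    have : mu (resTo hSI (ψ : I → ℂ)) (φ : S → ℂ) = (e : ℤ) := mu_eq (by rw [he]; push_cast; rfl)
    rw [this]
  have hdeg : charDegree (indFun I (ψ : I → ℂ)) = I.index * (e * charDegree (φ : S → ℂ)) := by
    have h1 := Cfsg.Agent.OddOrderCharacters.IndRes.indFun_apply_one (H := I) (ψ : I → ℂ)
    rw [hψ1, ← he, Cfsg.Agent.Blocks.Basic.irr_one_eq_charDegree φ.2,
      Cfsg.Agent.Blocks.Basic.irr_one_eq_charDegree hirr] at h1
    exact_mod_cast h1
  -- `φ` is a constituent of the restriction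
  have h5 : classInner (fun t : I => indFun I (ψ : I → ℂ) (t : G)) (ψ : I → ℂ) = 1 := by
    have h6 := Cfsg.Agent.OddOrderCharacters.Clifford.classInner_indFun I (ψ : I → ℂ)
      (indFun I (ψ : I → ℂ)) (isIrr_isClassFunction hirr)
    rw [classInner_irr_self hirr] at h6
    rw [← classInner_conj_symm, ← h6, map_one]
  have h9 : classInner (fun n : S => indFun I (ψ : I → ℂ) (n : G)) (φ : S → ℂ) ≠ 0 :=
    over_trans S I hSI (isIrr_isCharacter hirr) ψ.2 φ.2 (by rw [h5]; exact one_ne_zero) h0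
  refine ⟨⟨indFun I (ψ : I → ℂ), hirr⟩, mem_of_over hM S hidx hφ h9, ?_,
    fun g => indFun_pow I hk hψk g, h9⟩
  show Even (charDegree (indFun I (ψ : I → ℂ)))
  rw [hdeg]
  rcases heven with h | h
  · exact (h.mul_left e).mul_left _
  · obtain ⟨j, hj⟩ := hidx
    have h10 : I.index ∣ 2 ^ j := by
      rw [← hj]
      exact Subgroup.index_dvd_of_le hSI
    obtain ⟨i, -, hi⟩ := (Nat.dvd_prime_pow Nat.prime_two).1 h10
    have hi0 : i ≠ 0 := by
      rintro rfl
      rw [pow_zero, Subgroup.index_eq_one] at hi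
      exact h hi
    rw [hi]
    exact ((even_two.pow_of_ne_zero hi0)).mul_right _

/-- **The conclusion from an odd number of constituents.** -/
theorem of_sum' (hM : IsPModular 2 M) (S : Subgroup G) [hS : S.Normal] [Fintype S]
    (hidx : ∃ j : ℕ, S.index = 2 ^ j) (hk : IsK G k) {π : G → ℂ} (hπ : GC π)
    (hπk : ∀ t : G, π (t ^ k) = π t)
    (hodd : Odd (Nat.card {φ : IrrCharacter S // φ ∈ principalBlock M S ∧
      Even (charDegree (φ : S → ℂ)) ∧ Odd (mu (fun s : S => π s) (φ : S → ℂ))})) :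
    ConclF M G S k (fun φ => φ ∈ principalBlock M S ∧
      Even (charDegree (φ : S → ℂ)) ∧ Odd (mu (fun s : S => π s) (φ : S → ℂ))) := by
  classical
  obtain ⟨φ, ⟨hφ1, hφ2, hφ3⟩, hφ4, hφ5⟩ := exists_inv S hidx hk ⊤
    (fun φ : IrrCharacter S => φ ∈ principalBlock M S ∧
      Even (charDegree (φ : S → ℂ)) ∧ Odd (mu (fun s : S => π s) (φ : S → ℂ)))
    (by
      rintro d - φ ⟨h1, h2, h3⟩
      exact ⟨conjIrr_mem S d h1, by rwa [charDegree_conjIrr], by rwa [mu_conjIrr S hπ.cf]⟩)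
    (by
      rintro φ ⟨h1, h2, h3⟩
      refine ⟨pw_mem (hk.sub S) h1, by rwa [charDegree_pw (hk.sub S)], ?_⟩
      rwa [mu_pow (hk.sub S) (π := fun s : S => π s) (fun s => by
        show π ((s ^ k : S) : G) = π s
        rw [Subgroup.coe_pow, hπk])])
    hodd
  haveI : Fintype (⊤ : Subgroup G) := Fintype.ofFinite _
  have hφk := (Twist.fixed_iff (hk.sub S).coprime φ).1 hφ5
  obtain ⟨χ, h1, h2, h3, h4⟩ := of_inertia' hM S hidx hk φ hφ1 hφk ⊤
    (fun g => ⟨fun _ => congrArg Subtype.val (hφ4 g (Subgroup.mem_top g)), fun _ => Subgroup.mem_top g⟩)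
    le_top (π := fun t : (⊤ : Subgroup G) => π t) (hπ.comp (Subgroup.subtype ⊤))
    (fun t => by
      show π ((t ^ k : (⊤ : Subgroup G)) : G) = π t
      rw [Subgroup.coe_pow, hπk]) hφ3 (Or.inl hφ2)
  exact ⟨χ, h1, h2, h3, φ, ⟨hφ1, hφ2, hφ3⟩, hφk, h4⟩

/-- **The conclusion from an odd number of constituents of one of two swapped classes.** -/
theorem of_sum_pair' (hM : IsPModular 2 M) (S : Subgroup G) [hS : S.Normal] [Fintype S]
    (hidx : ∃ j : ℕ, S.index = 2 ^ j) (hk : IsK G k) (D : Subgroup G) [Fintype D]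
    (hD : D.index = 2) (hSD : S ≤ D) {π : D → ℂ} (hπ : GC π) (hπk : ∀ t : D, π (t ^ k) = π t)
    (g₀ : G) (hg₀ : g₀ ∉ D)
    (hodd : Odd (Nat.card {φ : IrrCharacter S // φ ∈ principalBlock M S ∧
      Odd (mu (resTo hSD π) (φ : S → ℂ)) ∧
      Even (mu (fun s : S => resTo hSD π (MulAut.conjNormal g₀ s)) (φ : S → ℂ))})) :
    ConclF M G S k (fun φ => φ ∈ principalBlock M S ∧
      Odd (mu (resTo hSD π) (φ : S → ℂ)) ∧
      Even (mu (fun s : S => resTo hSD π (MulAut.conjNormal g₀ s)) (φ : S → ℂ))) := by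
  classical
  haveI : D.Normal := Subgroup.normal_of_index_eq_two hD
  have hinv1 : ∀ d ∈ D, ∀ s : S, resTo hSD π (MulAut.conjNormal d s) = resTo hSD π s := by
    intro d hd s
    have h1 := hπ.cf ⟨s, hSD s.2⟩ ⟨d, hd⟩
    rw [← show π ⟨s, hSD s.2⟩ = resTo hSD π s from rfl, ← h1]
    rfl
  have hinv2 : ∀ d ∈ D, ∀ s : S,
      (fun s : S => resTo hSD π (MulAut.conjNormal g₀ s)) (MulAut.conjNormal d s) =
        (fun s : S => resTo hSD π (MulAut.conjNormal g₀ s)) s := by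
    intro d hd s
    have hd' : g₀ * d * g₀⁻¹ ∈ D := ‹D.Normal›.conj_mem d hd g₀
    show resTo hSD π ((MulAut.conjNormal g₀ : MulAut S) (MulAut.conjNormal d s)) = _
    have h1 : (MulAut.conjNormal g₀ : MulAut S) (MulAut.conjNormal d s) =
        MulAut.conjNormal (g₀ * d * g₀⁻¹) ((MulAut.conjNormal g₀ : MulAut S) s) := by
      ext
      simp only [MulAut.conjNormal_apply]
      group
    rw [h1, hinv1 _ hd']
  obtain ⟨φ, ⟨hφ1, hφ2, hφ3⟩, hφ4, hφ5⟩ := exists_inv S hidx hk D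
    (fun φ : IrrCharacter S => φ ∈ principalBlock M S ∧
      Odd (mu (resTo hSD π) (φ : S → ℂ)) ∧
      Even (mu (fun s : S => resTo hSD π (MulAut.conjNormal g₀ s)) (φ : S → ℂ)))
    (by
      rintro d hd φ ⟨h1, h2, h3⟩
      exact ⟨conjIrr_mem S d h1, by rwa [mu_conj_of_inv S d (hinv1 d hd)],
        by rwa [mu_conj_of_inv S d (hinv2 d hd)]⟩)
    (by
      rintro φ ⟨h1, h2, h3⟩
      refine ⟨pw_mem (hk.sub S) h1, ?_, ?_⟩
      · rwa [mu_pow (hk.sub S) (π := resTo hSD π) (fun s => hπk ⟨s, hSD s.2⟩)]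
      · rwa [mu_pow (hk.sub S) (π := fun s : S => resTo hSD π (MulAut.conjNormal g₀ s)) (fun s => by
          show resTo hSD π ((MulAut.conjNormal g₀ : MulAut S) (s ^ k)) = _
          rw [map_pow]
          exact hπk ⟨_, hSD ((MulAut.conjNormal g₀ : MulAut S) s).2⟩)])
    hodd
  have hne : conjIrr S g₀ φ ≠ φ := by
    intro h1
    have h2 := Clifford.classInner_comp_mulEquiv (MulAut.conjNormal g₀ : MulAut S) (resTo hSD π)
      (φ : S → ℂ)
    have h3 : ((φ : S → ℂ) ∘ (MulAut.conjNormal g₀ : MulAut S)) = (φ : S → ℂ) :=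
      congrArg Subtype.val h1
    rw [h3] at h2
    have h4 : mu (fun s : S => resTo hSD π (MulAut.conjNormal g₀ s)) (φ : S → ℂ) =
        mu (resTo hSD π) (φ : S → ℂ) := by
      rw [mu, mu, ← h2]
      rfl
    rw [h4] at hφ3
    exact (Int.not_even_iff_odd.2 hφ2) hφ3
  have hI : ∀ g, g ∈ D ↔ conjFn S (φ : S → ℂ) g = φ := by
    intro g
    refine ⟨fun hg => congrArg Subtype.val (hφ4 g hg), fun hg => ?_⟩
    by_contra hgD
    have h1 : g * g₀⁻¹ ∈ D := by
      rw [Subgroup.mul_mem_iff_of_index_two hD]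
      exact ⟨fun h => absurd h hgD, fun h => absurd (D.inv_mem_iff.1 h) hg₀⟩
    have h2 : conjIrr S g φ = φ := Subtype.ext hg
    have h3 := hφ4 _ h1
    apply hne
    have h4 := conjIrr_conjIrr (N := S) g₀ (g * g₀⁻¹) φ
    rw [h3, inv_mul_cancel_right, h2] at h4
    exact h4
  have hφk := (Twist.fixed_iff (hk.sub S).coprime φ).1 hφ5
  obtain ⟨χ, h1, h2, h3, h4⟩ := of_inertia' hM S hidx hk φ hφ1 hφk D hI hSD
    hπ hπk hφ2 (Or.inr (by
      rintro rfl
      rw [Subgroup.index_top] at hD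
      exact absurd hD (by norm_num)))
  exact ⟨χ, h1, h2, h3, φ, ⟨hφ1, hφ2, hφ3⟩, hφk, h4⟩

end concl

/-! ### The three-step chain `N ≤ J ≤ G` -/

section chain

open Cfsg.Agent.Blocks.Covering (conjIrr)
open Cfsg.Agent.OddOrderCharacters.PF9.CliffGen (resTo irr_ind)

variable {G : Type u} [Group G] [Fintype G] {M : Ideal AlgInt} {k : ℕ}

theorem mem_comp_equiv {H K : Type*} [Group H] [Group K] (e : H ≃* K) {χ : K → ℂ}
    (hχ : IsIrrCharacter K χ) (hχ' : IsIrrCharacter H (χ ∘ e)) :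
    (⟨χ ∘ e, hχ'⟩ : IrrCharacter H) ∈ principalBlock M H ↔
      (⟨χ, hχ⟩ : IrrCharacter K) ∈ principalBlock M K := by
  have h1 : ∀ (ψ : K → ℂ) (h : H), centralChar (ψ ∘ e) h = centralChar ψ (e h) := fun ψ h =>
    Cfsg.Agent.Blocks.Covering.centralChar_comp_equiv e ψ h
  constructor
  · intro h g
    obtain ⟨g, rfl⟩ := e.surjective g
    have h2 := h g
    have h3 := h1 (fun _ => 1) g
    have h4 := h1 χ g
    show MemLocalIdeal M (centralChar (fun _ => 1) (e g) - centralChar χ (e g))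
    rw [← h3, ← h4]
    exact h2
  · intro h g
    have h2 := h (e g)
    have h3 := h1 (fun _ => 1) g
    have h4 := h1 χ g
    show MemLocalIdeal M (centralChar ((fun _ => 1) ∘ e) g - centralChar (χ ∘ e) g)
    rw [h3, h4]
    exact h2

variable (N J : Subgroup G) [hN : N.Normal] [hJ : J.Normal] [Fintype N] [Fintype J] (hNJ : N ≤ J)

/-- The characters of `N` as characters of `N.subgroupOf J`. -/
def dnIrr (φ : IrrCharacter N) : IrrCharacter (N.subgroupOf J) :=
  ⟨dn N J hNJ (φ : N → ℂ), irr_dn N J hNJ φ.2⟩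

/-- The characters of `N.subgroupOf J` as characters of `N`. -/
def upIrr (φ : IrrCharacter (N.subgroupOf J)) : IrrCharacter N :=
  ⟨(φ : N.subgroupOf J → ℂ) ∘ (Subgroup.subgroupOfEquivOfLe hNJ).symm,
    isIrr_comp (Subgroup.subgroupOfEquivOfLe hNJ : N.subgroupOf J ≃* N).symm.toMonoidHom
    (Subgroup.subgroupOfEquivOfLe hNJ : N.subgroupOf J ≃* N).symm.surjective φ.2⟩

theorem up_dn (φ : IrrCharacter N) : upIrr N J hNJ (dnIrr N J hNJ φ) = φ := by
  apply Subtype.ext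
  funext n
  show (φ : N → ℂ) (Subgroup.subgroupOfEquivOfLe hNJ ((Subgroup.subgroupOfEquivOfLe hNJ).symm n)) = _
  rw [MulEquiv.apply_symm_apply]

theorem dn_up (φ : IrrCharacter (N.subgroupOf J)) : dnIrr N J hNJ (upIrr N J hNJ φ) = φ := by
  apply Subtype.ext
  funext n
  show (φ : N.subgroupOf J → ℂ) ((Subgroup.subgroupOfEquivOfLe hNJ).symm
    (Subgroup.subgroupOfEquivOfLe hNJ n)) = _
  rw [MulEquiv.symm_apply_apply]

theorem card_up' (hodd : Odd (N.relIndex J)) (hk : IsK G k)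
    (f : IrrCharacter N → Prop) (F : IrrCharacter J → Prop)
    (hf : ∀ φ, f φ → f (Twist.pw (hk.sub N).coprime φ))
    (hF : ∀ χ, F χ → F (Twist.pw (hk.sub J).coprime χ))
    (hfF : ∀ (χ : IrrCharacter J) (φ : IrrCharacter N),
      (∀ g : J, (χ : J → ℂ) (g ^ k) = (χ : J → ℂ) g) →
      (∀ n : N, (φ : N → ℂ) (n ^ k) = (φ : N → ℂ) n) →
      classInner (resTo hNJ (χ : J → ℂ)) (φ : N → ℂ) ≠ 0 → (F χ ↔ f φ)) :
    ((Nat.card {φ // f φ} : ℕ) : ZMod 2) = ((Nat.card {χ // F χ} : ℕ) : ZMod 2) := by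
  classical
  haveI : Fintype (N.subgroupOf J) := Fintype.ofFinite _
  have h1 : Nat.card {φ // f φ} = Nat.card {φ // f (upIrr N J hNJ φ)} :=
    Nat.card_congr
      { toFun := fun φ => ⟨dnIrr N J hNJ φ.1, by rw [up_dn]; exact φ.2⟩
        invFun := fun φ => ⟨upIrr N J hNJ φ.1, φ.2⟩
        left_inv := fun φ => Subtype.ext (up_dn N J hNJ φ.1)
        right_inv := fun φ => Subtype.ext (dn_up N J hNJ φ.1) }
  rw [h1]
  have hover : ∀ (χ : IrrCharacter J) (φ : IrrCharacter (N.subgroupOf J)),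
      classInner (fun n : N.subgroupOf J => (χ : J → ℂ) n) (φ : N.subgroupOf J → ℂ) =
        classInner (resTo hNJ (χ : J → ℂ)) (upIrr N J hNJ φ : N → ℂ) := by
    intro χ φ
    rw [← classInner_dn N J hNJ]
    have h2 : dn N J hNJ (upIrr N J hNJ φ : N → ℂ) = (φ : N.subgroupOf J → ℂ) :=
      congrArg Subtype.val (dn_up N J hNJ φ)
    rw [h2]
    rfl
  have hpw : ∀ φ : IrrCharacter (N.subgroupOf J),
      upIrr N J hNJ (Twist.pw ((hk.sub J).sub (N.subgroupOf J)).coprime φ) =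
        Twist.pw (hk.sub N).coprime (upIrr N J hNJ φ) := by
    intro φ
    apply Subtype.ext
    funext n
    show (φ : N.subgroupOf J → ℂ) (((Subgroup.subgroupOfEquivOfLe hNJ).symm n) ^ k) =
      (φ : N.subgroupOf J → ℂ) ((Subgroup.subgroupOfEquivOfLe hNJ).symm (n ^ k))
    rw [map_pow]
  refine card_up (hk.sub J) (N.subgroupOf J) hodd _ F ?_ hF ?_
  · intro φ hφ
    rw [hpw]
    exact hf _ hφ
  · intro χ φ h2 h3 h4
    rw [hover] at h4
    refine hfF χ _ h2 (fun n => ?_) h4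
    show (φ : N.subgroupOf J → ℂ) ((Subgroup.subgroupOfEquivOfLe hNJ).symm (n ^ k)) =
      (φ : N.subgroupOf J → ℂ) ((Subgroup.subgroupOfEquivOfLe hNJ).symm n)
    rw [map_pow, h3]

/-- The facts about a fixed character of `J` over a fixed character of `N`. -/
theorem chain_facts (hM : IsPModular 2 M) (hodd : Odd (N.relIndex J)) (hk : IsK G k)
    (χ : IrrCharacter J) (φ : IrrCharacter N)
    (hχ : ∀ g : J, (χ : J → ℂ) (g ^ k) = (χ : J → ℂ) g)
    (hover : classInner (resTo hNJ (χ : J → ℂ)) (φ : N → ℂ) ≠ 0) :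
    (χ ∈ principalBlock M J ↔ φ ∈ principalBlock M N) ∧
      (Even (charDegree (χ : J → ℂ)) ↔ Even (charDegree (φ : N → ℂ))) ∧
      ∀ π : J → ℂ, GC π → (∀ g, π (g ^ k) = π g) →
        (Odd (mu π (χ : J → ℂ)) ↔ Odd (mu (resTo hNJ π) (φ : N → ℂ))) := by
  classical
  haveI : Fintype (N.subgroupOf J) := Fintype.ofFinite _
  have h1 : classInner (fun n : N.subgroupOf J => (χ : J → ℂ) n)
      (dnIrr N J hNJ φ : N.subgroupOf J → ℂ) ≠ 0 := by
    have h2 := classInner_dn N J hNJ (resTo hNJ (χ : J → ℂ)) (φ : N → ℂ)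
    rw [← h2] at hover
    exact hover
  refine ⟨?_, ?_, fun π hπ hπk => ?_⟩
  · rw [mem_iff hM (hk.sub J) (N.subgroupOf J) hodd χ hχ (dnIrr N J hNJ φ) h1]
    exact mem_comp_equiv (Subgroup.subgroupOfEquivOfLe hNJ) φ.2 _
  · rw [(over_parity (hk.sub J) (N.subgroupOf J) hodd χ hχ (dnIrr N J hNJ φ) h1).2]
    have h2 : charDegree (dnIrr N J hNJ φ : N.subgroupOf J → ℂ) = charDegree (φ : N → ℂ) := by
      rw [charDegree_def, charDegree_def]
      have h3 : (dnIrr N J hNJ φ : N.subgroupOf J → ℂ) 1 = (φ : N → ℂ) 1 := by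
        show (φ : N → ℂ) ((Subgroup.subgroupOfEquivOfLe hNJ) 1) = _
        rw [map_one]
      rw [h3]
    rw [h2]
  · rw [mu_parity (hk.sub J) (N.subgroupOf J) hodd hπ hπk χ hχ (dnIrr N J hNJ φ) h1]
    have h2 := mu_dn N J hNJ π (φ : N → ℂ)
    have h3 : (dnIrr N J hNJ φ : N.subgroupOf J → ℂ) = dn N J hNJ (φ : N → ℂ) := rfl
    rw [h3, h2]

include hNJ

/-- Descent of the conclusion. -/
theorem ConclF.descend {F : IrrCharacter J → Prop} (h : ConclF M G J k F)
    (hF : ∀ (χ : IrrCharacter J) (φ : IrrCharacter N), F χ →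
      (∀ g : J, (χ : J → ℂ) (g ^ k) = (χ : J → ℂ) g) →
      classInner (resTo hNJ (χ : J → ℂ)) (φ : N → ℂ) ≠ 0 → (φ : N → ℂ) ≠ fun _ => 1) :
    Concl M G N k := by
  classical
  obtain ⟨χ, h1, h2, h3, θ, h4, h5, h6⟩ := h
  -- a constituent of `θ`
  haveI := @Fintype.ofFinite (IrrCharacter N) finite_irr
  have hc : IsCharacter N (resTo hNJ (θ : J → ℂ)) :=
    Cfsg.Agent.OddOrderCharacters.PF9.CliffGen.isCharacter_resTo hNJ (isIrr_isCharacter θ.2)
  obtain ⟨φ, hφ⟩ : ∃ φ : IrrCharacter N, classInner (resTo hNJ (θ : J → ℂ)) (φ : N → ℂ) ≠ 0 := by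
    by_contra hcon
    push Not at hcon
    have h7 := classFunction_eq_sum (isCharacter_isClassFunction hc)
    rw [Finset.sum_congr rfl fun φ _ => by rw [hcon φ, zero_smul], Finset.sum_const_zero] at h7
    have h8 := congrFun h7 1
    simp only [Pi.zero_apply] at h8
    exact isIrr_apply_one_ne_zero θ.2 h8
  have h7 := hF θ φ h4 h5 hφ
  have h8 := over_trans N J hNJ (isIrr_isCharacter χ.2) θ.2 φ.2 h6 hφ
  refine ⟨χ, h1, h2, h3, ?_⟩
  by_contra hne
  obtain ⟨g, hg⟩ := Cfsg.Agent.Characters.Clifford.exists_conj_of_constituents N χ.2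
    isIrrCharacter_one φ.2 hne h8
  apply h7
  rw [hg]
  rfl

/-- **The conclusion from an odd number of constituents**, chain version. -/
theorem of_sum_odd (hM : IsPModular 2 M) (hodd : Odd (N.relIndex J))
    (hidx : ∃ j : ℕ, J.index = 2 ^ j) (hk : IsK G k) {π : G → ℂ} (hπ : GC π)
    (hπk : ∀ t : G, π (t ^ k) = π t)
    (hcard : Odd (Nat.card {φ : IrrCharacter N // φ ∈ principalBlock M N ∧
      Even (charDegree (φ : N → ℂ)) ∧ Odd (mu (fun s : N => π s) (φ : N → ℂ))})) :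
    Concl M G N k := by
  classical
  have hπk' : ∀ g : J, (fun s : J => π s) (g ^ k) = (fun s : J => π s) g := fun s => by
    show π ((s ^ k : J) : G) = π s
    rw [Subgroup.coe_pow, hπk]
  have h1 := card_up' N J hNJ hodd hk
    (fun φ : IrrCharacter N => φ ∈ principalBlock M N ∧
      Even (charDegree (φ : N → ℂ)) ∧ Odd (mu (fun s : N => π s) (φ : N → ℂ)))
    (fun φ : IrrCharacter J => φ ∈ principalBlock M J ∧
      Even (charDegree (φ : J → ℂ)) ∧ Odd (mu (fun s : J => π s) (φ : J → ℂ)))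
    (by
      rintro φ ⟨h1, h2, h3⟩
      refine ⟨pw_mem (hk.sub N) h1, by rwa [charDegree_pw (hk.sub N)], ?_⟩
      rwa [mu_pow (hk.sub N) (π := fun s : N => π s) (fun s => by
        show π ((s ^ k : N) : G) = π s
        rw [Subgroup.coe_pow, hπk])])
    (by
      rintro φ ⟨h1, h2, h3⟩
      refine ⟨pw_mem (hk.sub J) h1, by rwa [charDegree_pw (hk.sub J)], ?_⟩
      rwa [mu_pow (hk.sub J) (π := fun s : J => π s) hπk'])
    (by
      intro χ φ h2 h3 h4
      obtain ⟨f1, f2, f3⟩ := chain_facts N J hNJ hM hodd hk χ φ h2 h4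
      rw [f1, f2, f3 (fun s : J => π s) (hπ.comp J.subtype) hπk']
      rfl)
  have h2 : Odd (Nat.card {φ : IrrCharacter J // φ ∈ principalBlock M J ∧
      Even (charDegree (φ : J → ℂ)) ∧ Odd (mu (fun s : J => π s) (φ : J → ℂ))}) := by
    rw [← Nat.not_even_iff_odd, even_iff_two_dvd, ← ZMod.natCast_eq_zero_iff, ← h1,
      ZMod.natCast_eq_zero_iff, ← even_iff_two_dvd, Nat.not_even_iff_odd]
    exact hcard
  refine (of_sum' hM J hidx hk hπ hπk h2).descend N J hNJ ?_
  rintro χ φ ⟨h3, h4, h5⟩ h6 h7 h8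
  obtain ⟨f1, f2, f3⟩ := chain_facts N J hNJ hM hodd hk χ φ h6 h7
  rw [f2, charDegree_def, h8] at h4
  simp at h4

/-- **The conclusion from a parity**, chain version. -/
theorem of_parity_odd (hM : IsPModular 2 M) (hodd : Odd (N.relIndex J))
    (hidx : ∃ j : ℕ, J.index = 2 ^ j) (hk : IsK G k) {π : G → ℂ} (hπ : GC π)
    (hπk : ∀ t : G, π (t ^ k) = π t)
    (hmem : ∀ φ : IrrCharacter N, Even (charDegree (φ : N → ℂ)) →
      Odd (mu (fun s : N => π s) (φ : N → ℂ)) → φ ∈ principalBlock M N)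
    {a b : ℤ} (ha : classInner (fun s : N => π s) (fun s : N => π s) = a) (hb : π 1 = b)
    (hab : Odd (a + b)) : Concl M G N k := by
  classical
  haveI := @Fintype.ofFinite (IrrCharacter N) finite_irr
  refine of_sum_odd N J hNJ hM hodd hidx hk hπ hπk ?_
  have h1 := (odd_card_iff (hπ.comp N.subtype) ha (by
    show π ((1 : N) : G) = b
    rw [Subgroup.coe_one, hb])).2 hab
  have h2 : (fun φ : IrrCharacter N => φ ∈ principalBlock M N ∧
      Even (charDegree (φ : N → ℂ)) ∧ Odd (mu (fun s : N => π s) (φ : N → ℂ))) =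
      fun φ : IrrCharacter N => Even (charDegree (φ : N → ℂ)) ∧
        Odd (mu (fun s : N => π (N.subtype s)) (φ : N → ℂ)) := by
    funext φ
    apply propext
    exact ⟨fun h => h.2, fun h => ⟨hmem φ h.1 h.2, h⟩⟩
  have h3 : Nat.card {φ : IrrCharacter N // φ ∈ principalBlock M N ∧
      Even (charDegree (φ : N → ℂ)) ∧ Odd (mu (fun s : N => π s) (φ : N → ℂ))} =
      Nat.card {φ : IrrCharacter N // Even (charDegree (φ : N → ℂ)) ∧
        Odd (mu (fun s : N => π (N.subtype s)) (φ : N → ℂ))} :=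
    congrArg (fun q : IrrCharacter N → Prop => Nat.card {φ // q φ}) h2
  rw [h3]
  exact h1

/-- **The conclusion from an odd number of constituents of one of two swapped classes**, chain
version. -/
theorem of_sum_pair_odd (hM : IsPModular 2 M) (hodd : Odd (N.relIndex J))
    (hidx : ∃ j : ℕ, J.index = 2 ^ j) (hk : IsK G k) (D : Subgroup G) [Fintype D]
    (hD : D.index = 2) (hND : N ≤ D) {π : D → ℂ} (hπ : GC π)
    (hπk : ∀ t : D, π (t ^ k) = π t) (g₀ : G) (hg₀ : g₀ ∉ D)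
    (hcard : Odd (Nat.card {φ : IrrCharacter N // φ ∈ principalBlock M N ∧
      Odd (mu (resTo hND π) (φ : N → ℂ)) ∧
      Even (mu (fun s : N => resTo hND π (MulAut.conjNormal g₀ s)) (φ : N → ℂ))})) :
    Concl M G N k := by
  classical
  haveI hDn : D.Normal := Subgroup.normal_of_index_eq_two hD
  -- `J ≤ D`
  have hJD : J ≤ D := by
    have h1 : Odd ((D.subgroupOf J).index) := by
      have h2 : (D ⊓ J).relIndex J ∣ N.relIndex J :=
        Subgroup.relIndex_dvd_of_le_left J (le_inf hND hNJ)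
      rw [Subgroup.inf_relIndex_right] at h2
      exact Odd.of_dvd_nat hodd h2
    have h2 : (D.subgroupOf J).index ∣ D.index := Subgroup.relIndex_dvd_index_of_normal D J
    rw [hD, Nat.dvd_prime Nat.prime_two] at h2
    rcases h2 with h2 | h2
    · rw [Subgroup.index_eq_one, Subgroup.subgroupOf_eq_top] at h2
      exact h2
    · rw [h2] at h1
      exact absurd h1 (by decide)
  have hπk1 : ∀ g : J, resTo hJD π (g ^ k) = resTo hJD π g := fun s => hπk ⟨s, hJD s.2⟩
  have hπk2 : ∀ g : J, (fun s : J => resTo hJD π (MulAut.conjNormal g₀ s)) (g ^ k) =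
      (fun s : J => resTo hJD π (MulAut.conjNormal g₀ s)) g := by
    intro s
    show resTo hJD π ((MulAut.conjNormal g₀ : MulAut J) (s ^ k)) = _
    rw [map_pow]
    exact hπk ⟨_, hJD ((MulAut.conjNormal g₀ : MulAut J) s).2⟩
  have hgc1 : GC (resTo hJD π) := hπ.resTo hJD
  have hgc2 : GC (fun s : J => resTo hJD π (MulAut.conjNormal g₀ s)) :=
    hgc1.comp (MulAut.conjNormal g₀ : MulAut J).toMonoidHom
  have h1 := card_up' N J hNJ hodd hk
    (fun φ : IrrCharacter N => φ ∈ principalBlock M N ∧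
      Odd (mu (resTo hND π) (φ : N → ℂ)) ∧
      Even (mu (fun s : N => resTo hND π (MulAut.conjNormal g₀ s)) (φ : N → ℂ)))
    (fun φ : IrrCharacter J => φ ∈ principalBlock M J ∧
      Odd (mu (resTo hJD π) (φ : J → ℂ)) ∧
      Even (mu (fun s : J => resTo hJD π (MulAut.conjNormal g₀ s)) (φ : J → ℂ)))
    (by
      rintro φ ⟨h1, h2, h3⟩
      refine ⟨pw_mem (hk.sub N) h1, ?_, ?_⟩
      · rwa [mu_pow (hk.sub N) (π := resTo hND π) (fun s => hπk ⟨s, hND s.2⟩)]
      · rwa [mu_pow (hk.sub N) (π := fun s : N => resTo hND π (MulAut.conjNormal g₀ s)) (fun s => by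
          show resTo hND π ((MulAut.conjNormal g₀ : MulAut N) (s ^ k)) = _
          rw [map_pow]
          exact hπk ⟨_, hND ((MulAut.conjNormal g₀ : MulAut N) s).2⟩)])
    (by
      rintro φ ⟨h1, h2, h3⟩
      refine ⟨pw_mem (hk.sub J) h1, ?_, ?_⟩
      · rwa [mu_pow (hk.sub J) (π := resTo hJD π) hπk1]
      · rwa [mu_pow (hk.sub J) (π := fun s : J => resTo hJD π (MulAut.conjNormal g₀ s)) hπk2])
    (by
      intro χ φ h2 h3 h4
      obtain ⟨f1, f2, f3⟩ := chain_facts N J hNJ hM hodd hk χ φ h2 h4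
      have f4 := f3 _ hgc1 hπk1
      have f5 := f3 _ hgc2 hπk2
      rw [f1, f4, ← Int.not_odd_iff_even, f5, ← Int.not_odd_iff_even]
      rfl)
  have h2 : Odd (Nat.card {φ : IrrCharacter J // φ ∈ principalBlock M J ∧
      Odd (mu (resTo hJD π) (φ : J → ℂ)) ∧
      Even (mu (fun s : J => resTo hJD π (MulAut.conjNormal g₀ s)) (φ : J → ℂ))}) := by
    rw [← Nat.not_even_iff_odd, even_iff_two_dvd, ← ZMod.natCast_eq_zero_iff, ← h1,
      ZMod.natCast_eq_zero_iff, ← even_iff_two_dvd, Nat.not_even_iff_odd]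
    exact hcard
  refine (of_sum_pair' hM J hidx hk D hD hJD hπ hπk g₀ hg₀ h2).descend N J hNJ ?_
  rintro χ φ ⟨h3, h4, h5⟩ h6 h7 h8
  obtain ⟨f1, f2, f3⟩ := chain_facts N J hNJ hM hodd hk χ φ h6 h7
  have f4 := f3 _ hgc1 hπk1
  have f5 := f3 _ hgc2 hπk2
  rw [f4] at h4
  rw [← Int.not_odd_iff_even, f5] at h5
  apply h5
  -- the principal character has the same multiplicity in the two restrictions
  have h9 := Clifford.classInner_comp_mulEquiv (MulAut.conjNormal g₀ : MulAut N) (resTo hND π)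
    (φ : N → ℂ)
  have h10 : ((φ : N → ℂ) ∘ (MulAut.conjNormal g₀ : MulAut N)) = (φ : N → ℂ) := by
    rw [h8]
    rfl
  rw [h10] at h9
  have h11 : mu (resTo hNJ (fun s : J => resTo hJD π (MulAut.conjNormal g₀ s))) (φ : N → ℂ) =
      mu (resTo hND π) (φ : N → ℂ) := by
    rw [mu, mu, ← h9]
    rfl
  rw [h11]
  exact h4

/-- **The conclusion from a parity, two swapped classes**, chain version. -/
theorem of_parity_pair_odd (hM : IsPModular 2 M) (hodd : Odd (N.relIndex J))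
    (hidx : ∃ j : ℕ, J.index = 2 ^ j) (hk : IsK G k) (D : Subgroup G) [Fintype D]
    (hD : D.index = 2) (hND : N ≤ D) {π : D → ℂ} (hπ : GC π)
    (hπk : ∀ t : D, π (t ^ k) = π t) (g₀ : G) (hg₀ : g₀ ∉ D)
    (hmem : ∀ φ : IrrCharacter N, Odd (mu (resTo hND π) (φ : N → ℂ)) →
      Even (mu (fun s : N => resTo hND π (MulAut.conjNormal g₀ s)) (φ : N → ℂ)) →
      φ ∈ principalBlock M N)
    {a b : ℤ} (ha : classInner (resTo hND π) (resTo hND π) = a)
    (hb : classInner (resTo hND π) (fun s : N => resTo hND π (MulAut.conjNormal g₀ s)) = b)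
    (hab : Odd (a + b)) : Concl M G N k := by
  classical
  haveI := @Fintype.ofFinite (IrrCharacter N) finite_irr
  refine of_sum_pair_odd N J hNJ hM hodd hidx hk D hD hND hπ hπk g₀ hg₀ ?_
  have hπS : GC (resTo hND π) := hπ.resTo hND
  have h1 := (odd_card_iff' hπS (hπS.comp (MulAut.conjNormal g₀ : MulAut N).toMonoidHom) ha hb).2 hab
  have h2 : (fun φ : IrrCharacter N => φ ∈ principalBlock M N ∧
      Odd (mu (resTo hND π) (φ : N → ℂ)) ∧
      Even (mu (fun s : N => resTo hND π (MulAut.conjNormal g₀ s)) (φ : N → ℂ))) =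
      fun φ : IrrCharacter N => Odd (mu (resTo hND π) (φ : N → ℂ)) ∧
      Even (mu (fun s : N => resTo hND π ((MulAut.conjNormal g₀ : MulAut N).toMonoidHom s))
        (φ : N → ℂ)) := by
    funext φ
    apply propext
    exact ⟨fun h => h.2, fun h => ⟨hmem φ h.1 h.2, h⟩⟩
  have h3 : Nat.card {φ : IrrCharacter N // φ ∈ principalBlock M N ∧
      Odd (mu (resTo hND π) (φ : N → ℂ)) ∧
      Even (mu (fun s : N => resTo hND π (MulAut.conjNormal g₀ s)) (φ : N → ℂ))} = _ :=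
    congrArg (fun q : IrrCharacter N → Prop => Nat.card {φ // q φ}) h2
  rw [h3]
  exact h1

end chain

end Cfsg.Agent.H611.EB
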